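import Mathlib

/-! One complex variable: functions of polynomial growth, simple roots; polynomiality from lines. -/

set_option autoImplicit false

open Filter Topology Polynomial

namespace Groth.Agent.AnConn

noncomputable section

/-- An entire function of polynomial growth is a polynomial. -/
theorem exists_poly_of_growth : ∀ (N : ℕ) (g : ℂ → ℂ), Differentiable ℂ g → ∀ C : ℝ,
    (∀ z, ‖g z‖ ≤ C * (1 + ‖z‖) ^ N) → ∃ q : ℂ[X], q.natDegree ≤ N ∧ ∀ z, g z = q.eval z
  | 0, g, hg, C, hb => by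
    refine ⟨Polynomial.C (g 0), by simp, fun z => ?_⟩
    rw [eval_C]
    refine hg.apply_eq_apply_of_bounded ?_ z 0
    refine (Metric.isBounded_closedBall (x := (0 : ℂ)) (r := C)).subset ?_
    rintro _ ⟨w, rfl⟩
    simpa using hb w
  | N + 1, g, hg, C, hb => by
    have hh : Differentiable ℂ (dslope g 0) := by
      rw [← differentiableOn_univ]
      exact (Complex.differentiableOn_dslope univ_mem).2 hg.differentiableOn
    obtain ⟨M, hM⟩ := (isCompact_closedBall (0 : ℂ) 1).exists_bound_of_continuousOn hh.continuous.continuousOn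
    have hC : 0 ≤ C := by simpa using (norm_nonneg _).trans (hb 0)
    obtain ⟨q, hq, hqe⟩ := exists_poly_of_growth N (dslope g 0) hh (max M (3 * C)) fun z => by
      rcases le_or_gt ‖z‖ 1 with h1 | h1
      · refine (hM z (by simpa using h1)).trans ?_
        refine (le_max_left _ _).trans (le_mul_of_one_le_right ?_ (one_le_pow₀ (by linarith [norm_nonneg z])))
        exact le_max_of_le_right (by linarith)
      · have e := sub_smul_dslope g 0 z
        rw [sub_zero, smul_eq_mul] at e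
        have e' : ‖z‖ * ‖dslope g 0 z‖ ≤ C * (1 + ‖z‖) ^ (N + 1) + C := by
          rw [← norm_mul, e]
          refine (norm_sub_le _ _).trans (add_le_add (hb z) ?_)
          simpa using hb 0
        have e'' : C * (1 + ‖z‖) ^ (N + 1) + C ≤ ‖z‖ * (3 * C * (1 + ‖z‖) ^ N) := by
          have h2 : (1 : ℝ) ≤ (1 + ‖z‖) ^ N := one_le_pow₀ (by linarith)
          rw [pow_succ]
          nlinarith [mul_nonneg (mul_nonneg hC (zero_le_one.trans h2)) (sub_nonneg.2 h1.le),
            mul_le_mul_of_nonneg_left h2 hC]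
        refine (le_of_mul_le_mul_left (e'.trans e'') (by linarith)).trans ?_
        exact mul_le_mul_of_nonneg_right (le_max_right _ _) (by positivity)
    refine ⟨Polynomial.C (g 0) + X * q, ?_, fun z => ?_⟩
    · refine (natDegree_add_le _ _).trans (max_le (by simp) ?_)
      refine natDegree_mul_le.trans ?_
      rw [natDegree_X]
      omega
    · have e := sub_smul_dslope g 0 z
      rw [sub_zero, smul_eq_mul] at e
      simp only [eval_add, eval_C, eval_mul, eval_X, ← hqe, e]
      ring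

/-- A locally bounded holomorphic function off a finite set, of polynomial growth, is a polynomial there. -/
theorem exists_poly_of_growth_off_finite {S : Set ℂ} (hS : S.Finite) (f : ℂ → ℂ)
    (hd : ∀ z ∉ S, DifferentiableAt ℂ f z) (N : ℕ) (C : ℝ) (hb : ∀ z ∉ S, ‖f z‖ ≤ C * (1 + ‖z‖) ^ N) :
    ∃ q : ℂ[X], q.natDegree ≤ N ∧ ∀ z ∉ S, f z = q.eval z := by
  classical
  let g : ℂ → ℂ := fun z => if z ∈ S then limUnder (𝓝[≠] z) f else f z
  have hg0 : ∀ z ∉ S, g z = f z := fun z hz => if_neg hz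
  have hloc : ∀ z ∈ S, ∃ s ∈ 𝓝 z, s \ {z} ⊆ Sᶜ ∧ BddAbove (norm ∘ f '' (s \ {z})) := by
    intro z hz
    refine ⟨(S \ {z})ᶜ ∩ Metric.ball z 1, inter_mem ((hS.sdiff).isClosed.compl_mem_nhds (by simp))
      (Metric.ball_mem_nhds z one_pos), fun w hw hwS => hw.1.1 ⟨hwS, hw.2⟩, ⟨|C| * (2 + ‖z‖) ^ N, ?_⟩⟩
    rintro _ ⟨w, hw, rfl⟩
    have hwS : w ∉ S := fun hwS => hw.1.1 ⟨hwS, hw.2⟩
    have h1 : ‖w‖ ≤ 1 + ‖z‖ := by
      have := mem_ball_iff_norm.1 hw.1.2
      linarith [norm_le_norm_add_norm_sub' w z]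
    refine (hb w hwS).trans ((mul_le_mul_of_nonneg_right (le_abs_self C) (by positivity)).trans ?_)
    exact mul_le_mul_of_nonneg_left (pow_le_pow_left₀ (by positivity) (by linarith) N) (abs_nonneg C)
  have hdg : Differentiable ℂ g := by
    intro z
    by_cases hz : z ∈ S
    · obtain ⟨s, hs, hsS, hsb⟩ := hloc z hz
      have h1 := Complex.differentiableOn_update_limUnder_of_bddAbove hs
        (fun w hw => (hd w (hsS hw)).differentiableWithinAt) hsb
      refine (h1.differentiableAt hs).congr_of_eventuallyEq ?_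
      filter_upwards [hs] with w hw
      rcases eq_or_ne w z with rfl | hne
      · simp [g, hz]
      · rw [Function.update_of_ne hne]
        exact hg0 w (hsS ⟨hw, hne⟩)
    · refine (hd z hz).congr_of_eventuallyEq ?_
      filter_upwards [hS.isClosed.compl_mem_nhds hz] with w hw using hg0 w hw
  have hgb : ∀ z, ‖g z‖ ≤ C * (1 + ‖z‖) ^ N := by
    have hcl : IsClosed {z | ‖g z‖ ≤ C * (1 + ‖z‖) ^ N} := isClosed_le hdg.continuous.norm (by fun_prop)
    intro z
    refine hcl.closure_subset ?_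
    have hdense : Dense Sᶜ := dense_univ.sdiff_finite hS |>.mono (by simp)
    refine closure_mono ?_ (hdense z)
    intro w hw
    rw [Set.mem_ofPred_eq, hg0 w hw]
    exact hb w hw
  obtain ⟨q, hq, hqe⟩ := exists_poly_of_growth N g hdg C hgb
  exact ⟨q, hq, fun z hz => (hg0 z hz).symm.trans (hqe z)⟩

/-- A continuous simple root of a holomorphically varying polynomial is holomorphic. -/
theorem differentiableAt_of_root {n : ℕ} (p : ℕ → ℂ → ℂ) {g : ℂ → ℂ} {s₀ : ℂ}
    (hp : ∀ i, DifferentiableAt ℂ (p i) s₀) (hg : ContinuousAt g s₀)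
    (hroot : ∀ᶠ s in 𝓝 s₀, ∑ i ∈ Finset.range n, p i s * g s ^ i = 0)
    (hsimple : ∑ i ∈ Finset.range n, p i s₀ * (i * g s₀ ^ (i - 1)) ≠ 0) : DifferentiableAt ℂ g s₀ := by
  let z₀ := g s₀
  let B : ℂ → ℂ := fun s => ∑ i ∈ Finset.range n, p i s * ∑ j ∈ Finset.range i, g s ^ j * z₀ ^ (i - 1 - j)
  have hB : ContinuousAt B s₀ := by
    refine tendsto_finsetSum _ fun i _ => (hp i).continuousAt.mul (tendsto_finsetSum _ fun j _ => ?_)
    exact (hg.pow j).mul continuousAt_const
  have hB0 : B s₀ ≠ 0 := by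
    convert hsimple using 1
    refine Finset.sum_congr rfl fun i _ => ?_
    congr 1
    rw [Finset.sum_congr rfl fun j hj => show g s₀ ^ j * z₀ ^ (i - 1 - j) = z₀ ^ (i - 1) by
      rw [← pow_add]; congr 1; have := Finset.mem_range.1 hj; omega]
    simp [z₀]
  have h0 := hroot.self_of_nhds
  have hid : ∀ᶠ s in 𝓝 s₀, (g s - z₀) * B s = -∑ i ∈ Finset.range n, (p i s - p i s₀) * z₀ ^ i := by
    filter_upwards [hroot] with s hs
    have : ∀ i, (g s - z₀) * (p i s * ∑ j ∈ Finset.range i, g s ^ j * z₀ ^ (i - 1 - j)) =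
        p i s * g s ^ i - (p i s - p i s₀) * z₀ ^ i - p i s₀ * z₀ ^ i := fun i => by
      rw [show (g s - z₀) * (p i s * ∑ j ∈ Finset.range i, g s ^ j * z₀ ^ (i - 1 - j)) =
        p i s * ((∑ j ∈ Finset.range i, g s ^ j * z₀ ^ (i - 1 - j)) * (g s - z₀)) by ring, geom_sum₂_mul]
      ring
    simp only [B]
    rw [Finset.mul_sum, Finset.sum_congr rfl fun i _ => this i, Finset.sum_sub_distrib, Finset.sum_sub_distrib, hs, h0]
    ring
  let L := (-∑ i ∈ Finset.range n, deriv (p i) s₀ * z₀ ^ i) / B s₀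
  have hlim : HasDerivAt g L s₀ := by
    rw [hasDerivAt_iff_tendsto_slope]
    have h1 : Tendsto (fun s => (-∑ i ∈ Finset.range n, slope (p i) s₀ s * z₀ ^ i) / B s) (𝓝[≠] s₀) (𝓝 L) := by
      refine Tendsto.div ?_ (hB.tendsto.mono_left nhdsWithin_le_nhds) hB0
      refine (tendsto_finsetSum _ fun i _ => ?_).neg
      exact ((hasDerivAt_iff_tendsto_slope.1 (hp i).hasDerivAt)).mul_const _
    refine h1.congr' ?_
    filter_upwards [hid.filter_mono nhdsWithin_le_nhds, (hB.eventually_ne hB0).filter_mono nhdsWithin_le_nhds,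
      self_mem_nhdsWithin] with s hs hsB hne
    have hne' : s - s₀ ≠ 0 := sub_ne_zero.2 hne
    have : ∑ i ∈ Finset.range n, slope (p i) s₀ s * z₀ ^ i =
        (∑ i ∈ Finset.range n, (p i s - p i s₀) * z₀ ^ i) / (s - s₀) := by
      rw [Finset.sum_div]
      refine Finset.sum_congr rfl fun i _ => ?_
      rw [slope_def_field]
      ring
    rw [this, ← neg_div, ← hs, slope_def_field]
    field_simp
    ring
  exact hlim.differentiableAt

theorem exists_mvPoly_of_box {d : ℕ} (N : ℕ) (B : Fin d → Set ℂ) (hB : ∀ i, (B i).Infinite) (c : (Fin d → ℂ) → ℂ)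
    (h : ∀ (x : Fin d → ℂ) (i : Fin d), (∀ j, x j ∈ B j) →
      ∃ q : ℂ[X], q.natDegree ≤ N ∧ ∀ w ∈ B i, c (Function.update x i w) = q.eval w) :
    ∃ Q : MvPolynomial (Fin d) ℂ, ∀ x, (∀ j, x j ∈ B j) → c x = MvPolynomial.eval x Q := by
  induction d with
  | zero => exact ⟨MvPolynomial.C (c Fin.elim0), fun x _ => by rw [MvPolynomial.eval_C, show x = Fin.elim0 from Subsingleton.elim _ _]⟩
  | succ d ih =>
    obtain ⟨s, hs, hsc⟩ := (hB 0).exists_subset_card_eq (N + 1)
    have hsub : ∀ w : ℂ, w ∈ B 0 → ∃ Q : MvPolynomial (Fin d) ℂ, ∀ y : Fin d → ℂ,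
        (∀ j, y j ∈ B j.succ) → c (Fin.cons w y) = MvPolynomial.eval y Q := fun w hw =>
      ih (fun j => B j.succ) (fun j => hB _) (fun y => c (Fin.cons w y)) fun y i hy => by
        obtain ⟨q, hq, hqe⟩ := h (Fin.cons w y) i.succ (Fin.forall_fin_succ.2 ⟨by simpa using hw, fun j => by simpa using hy j⟩)
        exact ⟨q, hq, fun u hu => by rw [← hqe u hu, Fin.cons_update]⟩
    choose! Q hQ using hsub
    refine ⟨∑ a ∈ s, MvPolynomial.rename Fin.succ (Q a) *
      Polynomial.aeval (MvPolynomial.X (0 : Fin (d + 1))) (Lagrange.basis s id a), fun x hx => ?_⟩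
    obtain ⟨q, hq, hqe⟩ := h x 0 hx
    have hint : q = Lagrange.interpolate s id fun a => q.eval a :=
      Lagrange.eq_interpolate (Function.injective_id.injOn) (by
        rw [hsc]
        exact (degree_le_natDegree).trans_lt (by exact_mod_cast Nat.lt_succ_of_le hq))
    have h0 : c x = q.eval (x 0) := by rw [← hqe _ (hx 0), Function.update_eq_self]
    rw [h0, hint, Lagrange.interpolate_apply, Polynomial.eval_finset_sum, map_sum]
    refine Finset.sum_congr rfl fun a ha => ?_
    rw [Polynomial.eval_mul, Polynomial.eval_C, map_mul, MvPolynomial.eval_rename,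
      show x ∘ Fin.succ = Fin.tail x from rfl, ← hQ a (hs ha) (Fin.tail x) (fun j => hx j.succ), ← hqe a (hs ha)]
    congr 1
    · rw [← Fin.update_cons_zero (x := x 0) (p := Fin.tail x) (z := a), Fin.cons_self_tail]
    · rw [Polynomial.aeval_def, Polynomial.hom_eval₂, MvPolynomial.eval_X,
        show (MvPolynomial.eval x).comp (algebraMap ℂ (MvPolynomial (Fin (d + 1)) ℂ)) = RingHom.id ℂ from
          RingHom.ext fun r => MvPolynomial.eval_C r]
      rfl

/-- A function on an open set that is polynomial of bounded degree on lines is a polynomial. -/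
theorem exists_mvPoly_of_lines {d : ℕ} (N : ℕ) {U : Set (Fin d → ℂ)} (hU : IsOpen U) (hne : U.Nonempty)
    (c : (Fin d → ℂ) → ℂ) (h : ∀ u ∈ U, ∀ v : Fin d → ℂ,
      ∃ q : ℂ[X], q.natDegree ≤ N ∧ ∀ s : ℂ, u + s • v ∈ U → c (u + s • v) = q.eval s) :
    ∃ Q : MvPolynomial (Fin d) ℂ, ∀ t ∈ U, c t = MvPolynomial.eval t Q := by
  obtain ⟨t₀, ht₀⟩ := hne
  obtain ⟨r, hr, hsub⟩ := Metric.isOpen_iff.1 hU t₀ ht₀
  have hbox : ∀ x : Fin d → ℂ, (∀ j, x j ∈ Metric.ball (t₀ j) r) → x ∈ U := fun x hx =>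
    hsub (Metric.mem_ball.2 ((dist_pi_lt_iff hr).2 hx))
  obtain ⟨Q, hQ⟩ := exists_mvPoly_of_box N (fun i => Metric.ball (t₀ i) r)
    (fun i => infinite_of_mem_nhds (t₀ i) (Metric.ball_mem_nhds _ hr)) c fun x i hx => by
      obtain ⟨q, hq, hqe⟩ := h x (hbox x hx) (Pi.single i 1)
      refine ⟨q.comp (X - Polynomial.C (x i)), ?_, fun w hw => ?_⟩
      · refine natDegree_comp_le.trans ?_
        rw [natDegree_X_sub_C, mul_one]
        exact hq
      · have e : Function.update x i w = x + (w - x i) • Pi.single i (1 : ℂ) := by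
          funext j
          rcases eq_or_ne j i with rfl | hj
          · simp
          · simp [hj]
        have hwU : Function.update x i w ∈ U := hbox _ fun j => by
          rcases eq_or_ne j i with rfl | hj
          · simpa using hw
          · simpa [hj] using hx j
        rw [e] at hwU ⊢
        rw [hqe _ hwU]
        simp
  refine ⟨Q, fun t ht => ?_⟩
  obtain ⟨q, -, hqe⟩ := h t₀ ht₀ (t - t₀)
  let line : MvPolynomial (Fin d) ℂ →+* ℂ[X] :=
    MvPolynomial.eval₂Hom Polynomial.C fun i => Polynomial.C (t₀ i) + X * Polynomial.C (t i - t₀ i)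
  have hline : ∀ s : ℂ, (line Q).eval s = MvPolynomial.eval (t₀ + s • (t - t₀)) Q := fun s => by
    have : (Polynomial.evalRingHom s).comp line = MvPolynomial.eval (t₀ + s • (t - t₀)) :=
      MvPolynomial.ringHom_ext (fun a => by simp [line]) (fun i => by simp [line])
    exact RingHom.congr_fun this Q
  have hnhds : {s : ℂ | ∀ j, (t₀ + s • (t - t₀)) j ∈ Metric.ball (t₀ j) r} ∈ 𝓝 (0 : ℂ) := by
    simp only [Set.ofPred_forall]
    refine Filter.iInter_mem.2 fun j => ?_
    have hc : Continuous fun s : ℂ => (t₀ + s • (t - t₀)) j := by fun_prop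
    exact hc.continuousAt.preimage_mem_nhds (by simpa using Metric.ball_mem_nhds (t₀ j) hr)
  have heq : q = line Q := by
    refine Polynomial.eq_of_infinite_eval_eq _ _ ((infinite_of_mem_nhds (0 : ℂ) hnhds).mono fun s hs => ?_)
    rw [Set.mem_ofPred_eq, hline, ← hQ _ hs, hqe s (hbox _ hs)]
  have e1 : t₀ + (1 : ℂ) • (t - t₀) = t := by simp
  have := hqe 1 (by rw [e1]; exact ht)
  rw [e1, heq, hline, e1] at this
  exact this

end

end Groth.Agent.AnConn
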