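import Mathlib
import Groth.Agent.AnPts.Dense
import Groth.Agent.AnConn.Poly

/-! The complex points of a finitely generated domain over `ℂ` are connected. -/

set_option autoImplicit false

open Filter Topology Polynomial

namespace Groth.Agent.AnConn

open Groth.Agent.AnPts

noncomputable section

variable {d : ℕ} {A : Type*} [CommRing A] [IsDomain A] [Algebra ℂ A] [Algebra (MvPolynomial (Fin d) ℂ) A]
  [IsScalarTower ℂ (MvPolynomial (Fin d) ℂ) A] [Module.Finite (MvPolynomial (Fin d) ℂ) A]

local notation "P" => MvPolynomial (Fin d) ℂ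

omit [Algebra ℂ A] [IsScalarTower ℂ (MvPolynomial (Fin d) ℂ) A] in
/-- A primitive element with a common denominator killing the discriminant. -/
theorem exists_primitive (hinj : Function.Injective (algebraMap P A)) :
    ∃ (a : A) (D : P), D ≠ 0 ∧ (∀ b : A, ∃ q : P[X], algebraMap P A D * b = aeval a q) ∧
      ∃ u v : P[X], u * minpoly P a + v * (minpoly P a).derivative = C D := by
  classical
  haveI : FaithfulSMul P A := (faithfulSMul_iff_algebraMap_injective P A).2 hinj
  haveI : Algebra.IsIntegral P A := Algebra.IsIntegral.of_finite P A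
  let K := FractionRing P
  let L := FractionRing A
  letI : Algebra K L := FractionRing.liftAlgebra P L
  haveI : IsScalarTower P K L := FractionRing.isScalarTower_liftAlgebra P L
  -- every element of `L` is a quotient with denominator in `P`
  have hden : ∀ x : L, ∃ (a : A) (r : P), r ≠ 0 ∧ algebraMap P L r * x = algebraMap A L a := fun x => by
    obtain ⟨a, b, hb, rfl⟩ := IsFractionRing.div_surjective A x
    obtain ⟨r, hr, c, hc⟩ := (Algebra.IsAlgebraic.isAlgebraic (R := P) b).exists_nonzero_dvd hb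
    refine ⟨c * a, r, hr, ?_⟩
    have hb0 : algebraMap A L b ≠ 0 := IsFractionRing.to_map_ne_zero_of_mem_nonZeroDivisors hb
    rw [IsScalarTower.algebraMap_apply P A L, hc, map_mul, map_mul]
    rw [mul_comm (algebraMap A L b), mul_assoc, mul_div_cancel₀ _ hb0]
  haveI : FiniteDimensional K L := by
    obtain ⟨s, hs⟩ := (inferInstance : Module.Finite P A).fg_top
    refine ⟨⟨s.image (algebraMap A L), eq_top_iff.2 fun x _ => ?_⟩⟩
    obtain ⟨a, r, hr, hx⟩ := hden x
    have hr' : algebraMap P K r ≠ 0 := fun h => hr ((IsFractionRing.to_map_eq_zero_iff).1 h)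
    have ha : ∀ z : A, algebraMap A L z ∈ Submodule.span K (↑(s.image (algebraMap A L)) : Set L) := fun z => by
      have : z ∈ Submodule.span P (s : Set A) := hs ▸ trivial
      induction this using Submodule.span_induction with
      | mem y hy => exact Submodule.subset_span (Finset.mem_coe.2 (Finset.mem_image_of_mem _ (Finset.mem_coe.1 hy)))
      | zero => simp
      | add y z _ _ hy hz => rw [map_add]; exact Submodule.add_mem _ hy hz
      | smul p y _ hy =>
        rw [Algebra.smul_def, map_mul, ← IsScalarTower.algebraMap_apply P A L, IsScalarTower.algebraMap_apply P K L,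
          ← Algebra.smul_def]
        exact Submodule.smul_mem _ _ hy
    have ha := ha a
    rw [← hx, IsScalarTower.algebraMap_apply P K L, ← Algebra.smul_def] at ha
    have := Submodule.smul_mem _ (algebraMap P K r)⁻¹ ha
    rwa [inv_smul_smul₀ hr'] at this
  obtain ⟨α, hα⟩ := Field.exists_primitive_element K L
  obtain ⟨a, r, hr, hra⟩ := hden α
  let α' := algebraMap A L a
  have hadj : Algebra.adjoin K {α'} = ⊤ := by
    rw [← IntermediateField.adjoin_simple_toSubalgebra_of_isAlgebraic (IsAlgebraic.of_finite K α'),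
      ← IntermediateField.top_toSubalgebra]
    congr 1
    rw [eq_top_iff, ← hα, IntermediateField.adjoin_simple_le_iff]
    have hr' : algebraMap P L r ≠ 0 := by
      rw [IsScalarTower.algebraMap_apply P K L, Ne, map_eq_zero]
      exact fun h => hr ((IsFractionRing.to_map_eq_zero_iff).1 h)
    have hαeq : α = (algebraMap P L r)⁻¹ * α' := by
      simp only [α', ← hra]
      rw [inv_mul_cancel_left₀ hr']
    rw [hαeq, IsScalarTower.algebraMap_apply P K L, ← map_inv₀]
    exact mul_mem (IntermediateField.algebraMap_mem _ _) (IntermediateField.mem_adjoin_simple_self K α')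
  -- a common denominator
  have hone : ∀ b : A, ∃ (r : P) (q : P[X]), r ≠ 0 ∧ algebraMap P A r * b = aeval a q := fun b => by
    have hb : algebraMap A L b ∈ Algebra.adjoin K {α'} := hadj ▸ trivial
    rw [Algebra.adjoin_singleton_eq_range_aeval] at hb
    obtain ⟨q', hq'⟩ := hb
    obtain ⟨b', hb'⟩ := IsLocalization.integerNormalization_map_to_map (nonZeroDivisors P) q'
    refine ⟨b', IsLocalization.integerNormalization (nonZeroDivisors P) q', nonZeroDivisors.coe_ne_zero b', ?_⟩
    apply IsFractionRing.injective A L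
    rw [← aeval_algebraMap_apply, ← aeval_map_algebraMap (A := K) (B := L), hb', map_mul,
      ← IsScalarTower.algebraMap_apply P A L]
    change algebraMap P L (b' : P) * algebraMap A L b = aeval α' ((b' : P) • q')
    rw [aeval_def, ← algebraMap_smul K (b' : P) q', eval₂_smul, ← aeval_def, show aeval α' q' = algebraMap A L b from hq',
      IsScalarTower.algebraMap_apply P K L]
  choose r q hr hq using hone
  obtain ⟨s, hs⟩ := (inferInstance : Module.Finite P A).fg_top
  let r₀ := ∏ b ∈ s, r b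
  have hr₀ : ∀ b : A, ∃ q : P[X], algebraMap P A r₀ * b = aeval a q := fun b => by
    have : b ∈ Submodule.span P (s : Set A) := hs ▸ trivial
    induction this using Submodule.span_induction with
    | mem y hy =>
      refine ⟨C (∏ b ∈ s.erase y, r b) * q y, ?_⟩
      rw [show r₀ = (∏ b ∈ s.erase y, r b) * r y from (Finset.prod_erase_mul _ _ hy).symm, map_mul, mul_assoc, hq,
        map_mul, aeval_C]
    | zero => exact ⟨0, by simp⟩
    | add y z _ _ hy hz =>
      obtain ⟨q₁, h₁⟩ := hy; obtain ⟨q₂, h₂⟩ := hz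
      exact ⟨q₁ + q₂, by rw [mul_add, h₁, h₂, map_add]⟩
    | smul p y _ hy =>
      obtain ⟨q₁, h₁⟩ := hy
      exact ⟨C p * q₁, by rw [map_mul, aeval_C, ← h₁, Algebra.smul_def]; ring⟩
  -- separability
  have hi : IsIntegral P a := Algebra.IsIntegral.isIntegral a
  have hsep : ((minpoly P a).map (algebraMap P K)).Separable := by
    rw [← minpoly.isIntegrallyClosed_eq_field_fractions K L hi]
    exact Algebra.IsSeparable.isSeparable K α'
  obtain ⟨u', v', huv⟩ := hsep
  obtain ⟨bu, hbu⟩ := IsLocalization.integerNormalization_map_to_map (nonZeroDivisors P) u'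
  obtain ⟨bv, hbv⟩ := IsLocalization.integerNormalization_map_to_map (nonZeroDivisors P) v'
  let nu := IsLocalization.integerNormalization (nonZeroDivisors P) u'
  let nv := IsLocalization.integerNormalization (nonZeroDivisors P) v'
  refine ⟨a, r₀ * ((bu : P) * bv), ?_, fun b => ?_, C (r₀ * bv) * nu, C (r₀ * bu) * nv, ?_⟩
  · exact mul_ne_zero (Finset.prod_ne_zero_iff.2 fun b _ => hr b)
      (mul_ne_zero (nonZeroDivisors.coe_ne_zero bu) (nonZeroDivisors.coe_ne_zero bv))
  · obtain ⟨q', hq'⟩ := hr₀ b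
    refine ⟨C ((bu : P) * bv) * q', ?_⟩
    rw [map_mul (aeval a), aeval_C, ← hq', map_mul, map_mul]
    ring
  · apply Polynomial.map_injective _ (IsFractionRing.injective P K)
    simp only [Polynomial.map_add, Polynomial.map_mul, map_C, map_mul, nu, nv, hbu, hbv, ← derivative_map]
    rw [← algebraMap_smul K (bu : P) u', ← algebraMap_smul K (bv : P) v',
      smul_eq_C_mul, smul_eq_C_mul]
    linear_combination (C (algebraMap P K r₀) * C (algebraMap P K (bu : P)) * C (algebraMap P K (bv : P))) * huv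

/-- The polynomial with the given roots has holomorphic coefficients. -/
theorem differentiableAt_coeff_prod {ι : Type*} (J : Finset ι) (g : ι → ℂ → ℂ) {s₀ : ℂ}
    (hg : ∀ j ∈ J, DifferentiableAt ℂ (g j) s₀) (k : ℕ) :
    DifferentiableAt ℂ (fun s => (∏ j ∈ J, (X - C (g j s))).coeff k) s₀ := by
  classical
  induction J using Finset.induction generalizing k with
  | empty => simp
  | insert j J hj ih =>
    simp only [Finset.prod_insert hj, sub_mul, coeff_sub, coeff_C_mul]
    refine DifferentiableAt.sub ?_ ((hg j (Finset.mem_insert_self _ _)).mul (ih (fun i hi => hg i (Finset.mem_insert_of_mem hi)) k))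
    cases k with
    | zero => simp
    | succ k => simp only [coeff_X_mul]; exact ih (fun i hi => hg i (Finset.mem_insert_of_mem hi)) k

theorem norm_coeff_prod_le (m : Multiset ℂ) {R : ℝ} (hR : 0 ≤ R) (h : ∀ t ∈ m, ‖t‖ ≤ R) (k : ℕ) :
    ‖((m.map fun t => X - C t).prod).coeff k‖ ≤ (1 + R) ^ m.card := by
  induction m using Multiset.induction generalizing k with
  | empty => simp only [Multiset.map_zero, Multiset.prod_zero, Multiset.card_zero, pow_zero, coeff_one]; split <;> simp
  | cons t m ih =>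
    have ih' := fun k => ih (fun x hx => h x (Multiset.mem_cons_of_mem hx)) k
    rw [Multiset.map_cons, Multiset.prod_cons, Multiset.card_cons, sub_mul, coeff_sub, coeff_C_mul, pow_succ, mul_one_add]
    refine (norm_sub_le _ _).trans (add_le_add ?_ ?_)
    · cases k with
      | zero => simp only [coeff_X_mul_zero, norm_zero]; positivity
      | succ k => rw [coeff_X_mul]; exact ih' k
    · rw [norm_mul, mul_comm ((1 + R) ^ _)]
      exact mul_le_mul (h t (Multiset.mem_cons_self _ _)) (ih' k) (norm_nonneg _) hR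

theorem eval_growth {d : ℕ} (p : MvPolynomial (Fin d) ℂ) :
    ∃ (C : ℝ) (N : ℕ), 0 ≤ C ∧ ∀ v : Fin d → ℂ, ‖MvPolynomial.eval v p‖ ≤ C * (1 + ‖v‖) ^ N := by
  induction p using MvPolynomial.induction_on with
  | C a => exact ⟨‖a‖, 0, norm_nonneg a, fun v => by simp⟩
  | add p q hp hq =>
    obtain ⟨C₁, N₁, hC₁, h₁⟩ := hp; obtain ⟨C₂, N₂, hC₂, h₂⟩ := hq
    refine ⟨C₁ + C₂, max N₁ N₂, add_nonneg hC₁ hC₂, fun v => ?_⟩
    rw [map_add, add_mul]
    have h1 : (1 : ℝ) ≤ 1 + ‖v‖ := by simp
    exact (norm_add_le _ _).trans (add_le_add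
      ((h₁ v).trans (mul_le_mul_of_nonneg_left (pow_le_pow_right₀ h1 (le_max_left _ _)) hC₁))
      ((h₂ v).trans (mul_le_mul_of_nonneg_left (pow_le_pow_right₀ h1 (le_max_right _ _)) hC₂)))
  | mul_X p i hp =>
    obtain ⟨C, N, hC, h⟩ := hp
    refine ⟨C, N + 1, hC, fun v => ?_⟩
    rw [map_mul, MvPolynomial.eval_X, norm_mul, pow_succ, ← mul_assoc]
    exact mul_le_mul (h v) ((norm_le_pi_norm v i).trans (by simp)) (norm_nonneg _) (by positivity)

section Points

variable (a : A) (D : MvPolynomial (Fin d) ℂ)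

omit [IsDomain A] [Module.Finite (MvPolynomial (Fin d) ℂ) A] in
theorem ext_of_coords (hA : ∀ b : A, ∃ q : P[X], algebraMap P A D * b = aeval a q) {ψ ψ' : A →ₐ[ℂ] ℂ}
    (hD : MvPolynomial.eval (coords (d := d) (ψ : A → ℂ)) D ≠ 0)
    (hc : coords (d := d) (ψ : A → ℂ) = coords (d := d) (ψ' : A → ℂ)) (ha : ψ a = ψ' a) : ψ = ψ' := by
  refine AlgHom.ext fun b => ?_
  obtain ⟨q, hq⟩ := hA b
  have h1 : ∀ χ : A →ₐ[ℂ] ℂ, MvPolynomial.eval (coords (d := d) (χ : A → ℂ)) D * χ b =
      (q.map (MvPolynomial.eval (coords (d := d) (χ : A → ℂ)))).eval (χ a) := fun χ => by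
    have h2 : (χ : A →+* ℂ).comp (algebraMap P A) = MvPolynomial.eval (coords (d := d) (χ : A → ℂ)) :=
      RingHom.ext fun p => apply_algebraMap χ p
    rw [← apply_algebraMap χ, ← map_mul, hq, eval_map, ← h2, aeval_def]
    exact hom_eval₂ q _ (χ : A →+* ℂ) a
  have e := h1 ψ
  have e' := h1 ψ'
  rw [← hc, ← ha, ← e] at e'
  exact (mul_left_cancel₀ hD e').symm

end Points

/-- A weight on points over the good locus which is locally constant. -/
theorem eq_empty_or_univ (hinj : Function.Injective (algebraMap P A)) [Algebra.FiniteType ℂ A] (a : A) (D : P) (hD : D ≠ 0)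
    (hA : ∀ b : A, ∃ q : P[X], algebraMap P A D * b = aeval a q)
    (hsep : ∃ u v : P[X], u * minpoly P a + v * (minpoly P a).derivative = C D)
    (O O' : Set (A → ℂ)) (hO : IsOpen O) (hO' : IsOpen O')
    (hcov : homSet A ∩ {f | f (algebraMap P A D) ≠ 0} ⊆ O ∪ O')
    (hdisj : homSet A ∩ {f | f (algebraMap P A D) ≠ 0} ∩ (O ∩ O') = ∅) :
    homSet A ∩ {f | f (algebraMap P A D) ≠ 0} ∩ O = ∅ ∨ homSet A ∩ {f | f (algebraMap P A D) ≠ 0} ∩ O' = ∅ := by
  classical
  haveI : Algebra.IsIntegral P A := Algebra.IsIntegral.of_finite P A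
  have hi : IsIntegral P a := Algebra.IsIntegral.isIntegral a
  let p := minpoly P a
  have hpm : p.Monic := minpoly.monic hi
  let n := p.natDegree
  let G : Set (Fin d → ℂ) := {v | MvPolynomial.eval v D ≠ 0}
  have hG : IsOpen G := isOpen_ne.preimage (MvPolynomial.continuous_eval D)
  let pv : (Fin d → ℂ) → ℂ[X] := fun v => p.map (MvPolynomial.eval v)
  let roots : (Fin d → ℂ) → Finset ℂ := fun v => (pv v).roots.toFinset
  have hsepv : ∀ v ∈ G, (pv v).Separable := fun v hv => by
    obtain ⟨u, w, huw⟩ := hsep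
    refine ⟨C (MvPolynomial.eval v D)⁻¹ * u.map (MvPolynomial.eval v), C (MvPolynomial.eval v D)⁻¹ * w.map (MvPolynomial.eval v), ?_⟩
    have := congrArg (Polynomial.map (MvPolynomial.eval v)) huw
    simp only [Polynomial.map_add, Polynomial.map_mul, map_C, ← derivative_map] at this
    simp only [pv, p]
    rw [mul_assoc, mul_assoc, ← mul_add, this, ← C_mul, inv_mul_cancel₀ hv, C_1]
  have hprod : ∀ v ∈ G, ∏ z ∈ roots v, (X - C z) = pv v := fun v hv => by
    have := (IsAlgClosed.splits (pv v)).eq_prod_roots_of_monic (hpm.map _)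
    refine Eq.trans ?_ this.symm
    change Finset.prod _ _ = _
    rw [Finset.prod_eq_multiset_prod, Multiset.toFinset_val, (nodup_roots (hsepv v hv)).dedup]
  -- points over the good locus are pairs
  have hpt : ∀ v ∈ G, ∀ z ∈ roots v, ∃ ψ : A →ₐ[ℂ] ℂ, coords (d := d) (ψ : A → ℂ) = v ∧ ψ a = z := fun v hv z hz =>
    exists_lift hinj a v z (mem_roots'.1 (Multiset.mem_toFinset.1 hz)).2
  have hroot : ∀ ψ : A →ₐ[ℂ] ℂ, ψ a ∈ roots (coords (d := d) (ψ : A → ℂ)) := fun ψ =>
    Multiset.mem_toFinset.2 (mem_roots'.2 ⟨(hpm.map _).ne_zero, eval_minpoly ψ a⟩)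
  have hGiff : ∀ ψ : A →ₐ[ℂ] ℂ, ψ (algebraMap P A D) ≠ 0 ↔ coords (d := d) (ψ : A → ℂ) ∈ G := fun ψ => by
    rw [apply_algebraMap]; rfl
  let inO : (Fin d → ℂ) → ℂ → Prop := fun v z => ∃ ψ : A →ₐ[ℂ] ℂ, coords (d := d) (ψ : A → ℂ) = v ∧ ψ a = z ∧ (ψ : A → ℂ) ∈ O
  let PO : (Fin d → ℂ) → ℂ[X] := fun v => ∏ z ∈ (roots v).filter (inO v), (X - C z)
  let PO' : (Fin d → ℂ) → ℂ[X] := fun v => ∏ z ∈ (roots v).filter (fun z => ¬ inO v z), (X - C z)
  -- the factor is locally given by holomorphic roots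
  have hloc : ∀ v₀ ∈ G, ∀ w : Fin d → ℂ, ∀ s₀ : ℂ, v₀ + s₀ • w ∈ G → ∀ k : ℕ,
      DifferentiableAt ℂ (fun s : ℂ => (PO (v₀ + s • w)).coeff k) s₀ ∧
      DifferentiableAt ℂ (fun s : ℂ => (PO' (v₀ + s • w)).coeff k) s₀ := by
    intro v₀ _ w s₀ hs₀ k
    let ℓ : ℂ → (Fin d → ℂ) := fun s => v₀ + s • w
    have hℓ : Continuous ℓ := by fun_prop
    let t₀ := ℓ s₀
    haveI : Nonempty (A →ₐ[ℂ] ℂ) := by
      obtain ⟨m, hm⟩ := Ideal.exists_maximal A
      haveI := hm
      exact ⟨(exists_algHom_of_isMaximal m).choose⟩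
    choose! ψ hψv hψa using hpt t₀ hs₀
    obtain ⟨ε, hε, hεsep⟩ : ∃ ε : ℝ, 0 < ε ∧ ∀ z ∈ roots t₀, ∀ z' ∈ roots t₀, dist z z' < 2 * ε → z = z' := by
      have h : ∀ z ∈ roots t₀, ∀ᶠ e in 𝓝[>] (0 : ℝ), ∀ z' ∈ roots t₀, dist z z' < 2 * e → z = z' := fun z _ =>
        (Finset.eventually_all _).2 fun z' _ => by
          by_cases hne : z = z'
          · exact Eventually.of_forall fun _ _ => hne
          · filter_upwards [nhdsWithin_le_nhds (Iio_mem_nhds (half_pos (dist_pos.2 hne)))] with e he hlt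
            rw [Set.mem_Iio] at he
            linarith
      obtain ⟨e, he, he'⟩ := (((Finset.eventually_all _).2 h).and (self_mem_nhdsWithin : Set.Ioi (0 : ℝ) ∈ 𝓝[>] 0)).exists
      exact ⟨e, he', he⟩
    let Nb : ℂ → Set (A → ℂ) := fun z => (if inO t₀ z then O else O') ∩ {f | f a ∈ Metric.ball z ε}
    have hNb : ∀ z, IsOpen (Nb z) := fun z =>
      (by split <;> assumption : IsOpen (if inO t₀ z then O else O')).inter (Metric.isOpen_ball.preimage (continuous_apply a))
    have hψN : ∀ z ∈ roots t₀, (ψ z : A → ℂ) ∈ Nb z := fun z hz => by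
      refine ⟨?_, by simpa [hψa z hz] using hε⟩
      have hG' : ψ z (algebraMap P A D) ≠ 0 := (hGiff _).2 (by rw [hψv z hz]; exact hs₀)
      split
      · rename_i hin
        obtain ⟨χ, hχv, hχa, hχO⟩ := hin
        rwa [ext_of_coords a D hA (by rw [hψv z hz]; exact hs₀) ((hψv z hz).trans hχv.symm) ((hψa z hz).trans hχa.symm)]
      · rename_i hin
        exact (hcov ⟨⟨ψ z, rfl⟩, hG'⟩).resolve_left fun h => hin ⟨ψ z, hψv z hz, hψa z hz, h⟩
    have hKc := (isCompact_homSet_over (A := A) t₀).inter_right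
      (isOpen_biUnion fun z (_ : z ∈ roots t₀) => hNb z).isClosed_compl
    let coordsMap : (A → ℂ) → (Fin d → ℂ) := coords (d := d)
    have hcc : Continuous coordsMap := continuous_pi fun i => continuous_apply _
    have hnot : t₀ ∉ coordsMap '' (homSet A ∩ coords (d := d) ⁻¹' Metric.closedBall t₀ 1 ∩ (⋃ z ∈ roots t₀, Nb z)ᶜ) := by
      rintro ⟨_, ⟨⟨⟨χ, rfl⟩, -⟩, hχn⟩, hχv⟩
      have hz : χ a ∈ roots t₀ := by
        have := hroot χ
        rwa [show coords (d := d) (χ : A → ℂ) = t₀ from hχv] at this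
      refine hχn (Set.mem_biUnion hz ?_)
      have e : χ = ψ (χ a) := ext_of_coords a D hA (by rw [show coords (d := d) (χ : A → ℂ) = t₀ from hχv]; exact hs₀)
        (hχv.trans (hψv _ hz).symm) (hψa _ hz).symm
      have h' := hψN _ hz
      rwa [← e] at h'
    have hcount : ∀ᶠ s in 𝓝 s₀, ℓ s ∈ G ∧ (∀ χ : A →ₐ[ℂ] ℂ, coords (d := d) (χ : A → ℂ) = ℓ s →
        ∃ z ∈ roots t₀, (χ : A → ℂ) ∈ Nb z) ∧ ∀ z ∈ roots t₀, ∃ r ∈ roots (ℓ s), dist r z < ε := by
      have e1 : ∀ᶠ v in 𝓝 t₀, v ∈ Metric.closedBall t₀ 1 ∧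
          v ∉ coordsMap '' (homSet A ∩ coords (d := d) ⁻¹' Metric.closedBall t₀ 1 ∩ (⋃ z ∈ roots t₀, Nb z)ᶜ) :=
        Filter.Eventually.and (Metric.closedBall_mem_nhds t₀ one_pos) ((hKc.image hcc).isClosed.compl_mem_nhds hnot)
      have e3 : ∀ z ∈ roots t₀, ∀ᶠ v in 𝓝 t₀, ∃ r ∈ roots v, dist r z < ε := fun z hz => by
        have hcont : Continuous fun v => (pv v).eval z := by
          have : ∀ v, (pv v).eval z = ∑ i ∈ Finset.range (n + 1), MvPolynomial.eval v (p.coeff i) * z ^ i := fun v => by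
            rw [eval_eq_sum_range' (Nat.lt_succ_of_le natDegree_map_le)]
            simp only [pv, coeff_map]
            rfl
          simp only [this]
          exact continuous_finsetSum _ fun i _ => (MvPolynomial.continuous_eval _).mul continuous_const
        have h0 : (pv t₀).eval z = 0 := (mem_roots'.1 (Multiset.mem_toFinset.1 hz)).2
        filter_upwards [hcont.continuousAt.preimage_mem_nhds (by rw [h0]; exact Metric.ball_mem_nhds 0 (pow_pos hε n))] with v hv
        have hd : 0 < (pv v).natDegree := by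
          rw [hpm.natDegree_map]; exact minpoly.natDegree_pos hi
        obtain ⟨r, hr, hrle⟩ := exists_root_norm_pow_le ((hpm.map (MvPolynomial.eval v)).comp_X_add_C z)
          (by rw [natDegree_comp, natDegree_X_add_C, mul_one]; exact hd)
        rw [natDegree_comp, natDegree_X_add_C, mul_one, hpm.natDegree_map, coeff_zero_eq_eval_zero, eval_comp] at hrle
        refine ⟨r + z, Multiset.mem_toFinset.2 (mem_roots'.2 ⟨(hpm.map _).ne_zero, by simpa [pv, eval_comp] using hr⟩), ?_⟩
        rw [dist_eq_norm, add_sub_cancel_right]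
        refine lt_of_pow_lt_pow_left₀ n hε.le (hrle.trans_lt ?_)
        simpa [pv] using hv
      filter_upwards [hℓ.continuousAt.eventually (hG.mem_nhds hs₀), hℓ.continuousAt.eventually e1,
        hℓ.continuousAt.eventually ((Finset.eventually_all _).2 e3)] with s h1 h2 h3
      refine ⟨h1, fun χ hχ => ?_, h3⟩
      by_contra hn
      refine h2.2 ⟨χ, ⟨⟨⟨χ, rfl⟩, by rw [Set.mem_preimage, hχ]; exact h2.1⟩, ?_⟩, hχ⟩
      simpa using hn
    let g : ℂ → ℂ → ℂ := fun z s => if h : ∃ r ∈ roots (ℓ s), dist r z < ε then h.choose else z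
    have huniq : ∀ᶠ s in 𝓝 s₀, (∀ z ∈ roots t₀, g z s ∈ roots (ℓ s) ∧ ∀ r ∈ roots (ℓ s), dist r z < ε → r = g z s) ∧
        Set.InjOn (fun z => g z s) (roots t₀ : Set ℂ) ∧ (roots t₀).image (fun z => g z s) = roots (ℓ s) := by
      filter_upwards [hcount] with s ⟨hsG, hall, hex⟩
      have hg : ∀ z ∈ roots t₀, g z s ∈ roots (ℓ s) ∧ dist (g z s) z < ε := fun z hz => by
        simp only [g, dif_pos (hex z hz)]; exact (hex z hz).choose_spec
      have hinjg : Set.InjOn (fun z => g z s) (roots t₀ : Set ℂ) := fun z hz z' hz' (e : g z s = g z' s) =>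
        hεsep z hz z' hz' (by
          have a1 := (hg z hz).2; have a2 := (hg z' hz').2
          rw [← e] at a2
          linarith [dist_triangle_left z z' (g z s)])
      have himg : (roots t₀).image (fun z => g z s) = roots (ℓ s) := by
        refine Finset.eq_of_subset_of_card_le (Finset.image_subset_iff.2 fun z hz => (hg z hz).1) ?_
        rw [Finset.card_image_of_injOn hinjg]
        have hc : ∀ v ∈ G, (roots v).card = n := fun v hv => by
          rw [Multiset.toFinset_card_of_nodup (nodup_roots (hsepv v hv)),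
            ← (IsAlgClosed.splits (pv v)).natDegree_eq_card_roots, hpm.natDegree_map]
        rw [hc _ hsG, hc _ hs₀]
      refine ⟨fun z hz => ⟨(hg z hz).1, fun r hr hrz => ?_⟩, hinjg, himg⟩
      obtain ⟨z', hz', rfl⟩ := Finset.mem_image.1 (himg.ge hr)
      rw [hεsep z' hz' z hz (by linarith [(hg z' hz').2, dist_triangle_left z' z (g z' s)])]
    have hfilt : ∀ᶠ s in 𝓝 s₀, ∀ z ∈ roots t₀, (inO (ℓ s) (g z s) ↔ inO t₀ z) := by
      filter_upwards [hcount, huniq] with s ⟨hsG, hall, hex⟩ ⟨hu, hinjg, himg⟩ z hz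
      obtain ⟨χ, hχv, hχa⟩ := hpt _ hsG _ (hu z hz).1
      obtain ⟨z', hz', hχN⟩ := hall χ hχv
      have hzz : z' = z := hinjg hz' hz (by
        change g z' s = g z s
        rw [← hχa]
        exact ((hu z' hz').2 _ (hχa ▸ (hu z hz).1) hχN.2).symm)
      subst hzz
      constructor
      · rintro ⟨χ', hv', ha', hO₁⟩
        rw [ext_of_coords a D hA (by rw [hv']; exact hsG) (hv'.trans hχv.symm) (ha'.trans hχa.symm)] at hO₁
        by_contra hn
        have h2 := hχN.1
        rw [if_neg hn] at h2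
        exact hdisj.le ⟨⟨⟨χ, rfl⟩, (hGiff χ).2 (by rw [hχv]; exact hsG)⟩, hO₁, h2⟩
      · intro hin
        have h2 := hχN.1
        rw [if_pos hin] at h2
        exact ⟨χ, hχv, hχa, h2⟩
    have hdiff : ∀ z ∈ roots t₀, DifferentiableAt ℂ (g z) s₀ := fun z hz => by
      have hz0 : g z s₀ = z := by
        have := (huniq.self_of_nhds).1 z hz
        exact (this.2 z hz (by simpa using hε)).symm
      refine differentiableAt_of_root (n := n + 1) (fun i s => (pv (ℓ s)).coeff i) (fun i => ?_) ?_ ?_ ?_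
      · simp only [pv, coeff_map]
        let line : MvPolynomial (Fin d) ℂ →+* ℂ[X] :=
          MvPolynomial.eval₂Hom Polynomial.C fun j => Polynomial.C (v₀ j) + X * Polynomial.C (w j)
        have hline : ∀ s : ℂ, MvPolynomial.eval (ℓ s) (p.coeff i) = (line (p.coeff i)).eval s := fun s => by
          have : (Polynomial.evalRingHom s).comp line = MvPolynomial.eval (ℓ s) :=
            MvPolynomial.ringHom_ext (fun a => by simp [line]) (fun j => by simp [line, ℓ]; ring)
          exact (RingHom.congr_fun this (p.coeff i)).symm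
        simp only [hline]
        exact Polynomial.differentiableAt _
      · rw [Metric.continuousAt_iff']
        intro δ hδ
        rw [hz0]
        have hcont : Continuous fun s => (pv (ℓ s)).eval z := by
          have : ∀ v, (pv v).eval z = ∑ i ∈ Finset.range (n + 1), MvPolynomial.eval v (p.coeff i) * z ^ i := fun v => by
            rw [eval_eq_sum_range' (Nat.lt_succ_of_le natDegree_map_le)]
            simp only [pv, coeff_map]
            rfl
          simp only [this]
          exact continuous_finsetSum _ fun i _ => ((MvPolynomial.continuous_eval _).comp hℓ).mul continuous_const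
        have h0 : (pv t₀).eval z = 0 := (mem_roots'.1 (Multiset.mem_toFinset.1 hz)).2
        filter_upwards [huniq, hcont.continuousAt.preimage_mem_nhds
          (by rw [show (pv (ℓ s₀)).eval z = 0 from h0]; exact Metric.ball_mem_nhds 0 (pow_pos (lt_min hδ hε) n))] with s hu hv
        have hd : 0 < (pv (ℓ s)).natDegree := by rw [hpm.natDegree_map]; exact minpoly.natDegree_pos hi
        obtain ⟨r, hr, hrle⟩ := exists_root_norm_pow_le ((hpm.map (MvPolynomial.eval (ℓ s))).comp_X_add_C z)
          (by rw [natDegree_comp, natDegree_X_add_C, mul_one]; exact hd)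
        rw [natDegree_comp, natDegree_X_add_C, mul_one, hpm.natDegree_map, coeff_zero_eq_eval_zero, eval_comp] at hrle
        have hlt : ‖r‖ < min δ ε := lt_of_pow_lt_pow_left₀ n (lt_min hδ hε).le (hrle.trans_lt (by simpa [pv] using hv))
        rw [← (hu.1 z hz).2 (r + z) (Multiset.mem_toFinset.2 (mem_roots'.2 ⟨(hpm.map _).ne_zero, by simpa [pv, eval_comp] using hr⟩))
          (by rw [dist_eq_norm, add_sub_cancel_right]; exact hlt.trans_le (min_le_right _ _)), dist_eq_norm, add_sub_cancel_right]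
        exact hlt.trans_le (min_le_left _ _)
      · filter_upwards [huniq] with s hu
        rw [← eval_eq_sum_range' (Nat.lt_succ_of_le natDegree_map_le)]
        exact (mem_roots'.1 (Multiset.mem_toFinset.1 (hu.1 z hz).1)).2
      · rw [hz0]
        have h1 : (pv t₀).derivative.eval z ≠ 0 := (hsepv t₀ hs₀).eval₂_derivative_ne_zero (RingHom.id ℂ)
          (mem_roots'.1 (Multiset.mem_toFinset.1 hz)).2
        convert h1 using 1
        rw [derivative_eval, (pv t₀).sum_over_range' (fun i => by simp) (n + 1) (Nat.lt_succ_of_le natDegree_map_le)]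
        exact Finset.sum_congr rfl fun i _ => (mul_assoc _ _ _).symm
    constructor
    · refine (differentiableAt_coeff_prod ((roots t₀).filter (inO t₀)) g (fun z hz => hdiff z (Finset.mem_filter.1 hz).1) k).congr_of_eventuallyEq ?_
      filter_upwards [huniq, hfilt] with s ⟨_, hinjg, himg⟩ hf
      change (∏ z ∈ (roots (ℓ s)).filter (inO (ℓ s)), (X - C z)).coeff k = _
      rw [← himg, Finset.filter_image, Finset.prod_image (hinjg.mono (Finset.coe_subset.2 (Finset.filter_subset _ _)))]
      rw [Finset.filter_congr hf]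
    · refine (differentiableAt_coeff_prod ((roots t₀).filter (fun z => ¬ inO t₀ z)) g (fun z hz => hdiff z (Finset.mem_filter.1 hz).1) k).congr_of_eventuallyEq ?_
      filter_upwards [huniq, hfilt] with s ⟨_, hinjg, himg⟩ hf
      change (∏ z ∈ (roots (ℓ s)).filter (fun z => ¬ inO (ℓ s) z), (X - C z)).coeff k = _
      rw [← himg, Finset.filter_image, Finset.prod_image (hinjg.mono (Finset.coe_subset.2 (Finset.filter_subset _ _)))]
      rw [Finset.filter_congr fun z hz => not_congr (hf z hz)]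
  -- growth
  choose Cc Nc hCc hgr using fun i : ℕ => eval_growth (p.coeff i)
  let C₀ : ℝ := 2 + ∑ i ∈ Finset.range n, Cc i
  let N₀ : ℕ := ∑ i ∈ Finset.range n, Nc i
  have hC₀ : 2 ≤ C₀ := le_add_of_nonneg_right (Finset.sum_nonneg fun i _ => hCc i)
  have hbound : ∀ (Q : (Fin d → ℂ) → ℂ → Prop) (v : Fin d → ℂ), v ∈ G → ∀ k,
      ‖(∏ z ∈ (roots v).filter (Q v), (X - C z)).coeff k‖ ≤ (C₀ * (1 + ‖v‖) ^ N₀) ^ n := by
    intro Q v hv k
    have h1 : (1 : ℝ) ≤ (1 + ‖v‖) ^ N₀ := one_le_pow₀ (by simp)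
    let R := 1 + ∑ i ∈ Finset.range n, Cc i * (1 + ‖v‖) ^ N₀
    have hR : 0 ≤ R := add_nonneg zero_le_one (Finset.sum_nonneg fun i _ => mul_nonneg (hCc i) (by positivity))
    have hz : ∀ z ∈ roots v, ‖z‖ ≤ R := fun z hz => by
      refine (norm_root_le (hpm.map (MvPolynomial.eval v)) (mem_roots'.1 (Multiset.mem_toFinset.1 hz)).2).trans ?_
      rw [hpm.natDegree_map]
      refine add_le_add le_rfl (Finset.sum_le_sum fun i hi => ?_)
      rw [coeff_map]
      exact (hgr i v).trans (mul_le_mul_of_nonneg_left (pow_le_pow_right₀ (by simp)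
        (Finset.single_le_sum (fun _ _ => Nat.zero_le _) hi)) (hCc i))
    have h2 := norm_coeff_prod_le ((roots v).filter (Q v)).val hR (fun t ht => hz t (Finset.mem_filter.1 ht).1) k
    refine h2.trans ?_
    have hcard : ((roots v).filter (Q v)).val.card ≤ n :=
      (Finset.card_filter_le _ _).trans ((Multiset.toFinset_card_le _).trans ((card_roots' _).trans natDegree_map_le))
    refine (pow_le_pow_right₀ (by linarith) hcard).trans (pow_le_pow_left₀ (by linarith) ?_ n)
    simp only [R, C₀, ← Finset.sum_mul]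
    nlinarith
  -- polynomiality
  have hne : G.Nonempty := by
    by_contra hc
    exact hD (MvPolynomial.funext fun v => by
      rw [map_zero]
      by_contra h
      exact hc ⟨v, h⟩)
  have hpoly : ∀ (Q : (Fin d → ℂ) → ℂ → Prop) (k : ℕ),
      (∀ v₀ ∈ G, ∀ w : Fin d → ℂ, ∀ s₀ : ℂ, v₀ + s₀ • w ∈ G →
        DifferentiableAt ℂ (fun s : ℂ => (∏ z ∈ (roots (v₀ + s • w)).filter (Q (v₀ + s • w)), (X - C z)).coeff k) s₀) →
      ∃ q : P, ∀ v ∈ G, (∏ z ∈ (roots v).filter (Q v), (X - C z)).coeff k = MvPolynomial.eval v q := by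
    intro Q k hd
    refine exists_mvPoly_of_lines (N₀ * n) hG hne _ fun u hu w => ?_
    let line : MvPolynomial (Fin d) ℂ →+* ℂ[X] :=
      MvPolynomial.eval₂Hom Polynomial.C fun j => Polynomial.C (u j) + X * Polynomial.C (w j)
    have hline : ∀ s : ℂ, MvPolynomial.eval (u + s • w) D = (line D).eval s := fun s => by
      have : (Polynomial.evalRingHom s).comp line = MvPolynomial.eval (u + s • w) :=
        MvPolynomial.ringHom_ext (fun a => by simp [line]) (fun j => by simp [line]; ring)
      exact (RingHom.congr_fun this D).symm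
    have hline0 : line D ≠ 0 := fun h => hu (by
      have := hline 0
      rw [zero_smul, add_zero, h, eval_zero] at this
      exact this)
    have hSiff : ∀ s : ℂ, s ∉ {s | (line D).IsRoot s} ↔ u + s • w ∈ G := fun s => by
      simp only [G, Set.mem_ofPred_eq, Polynomial.IsRoot, ← hline, ne_eq]
    obtain ⟨q, hq, hqe⟩ := exists_poly_of_growth_off_finite (finite_setOfPred_isRoot hline0)
      (fun s : ℂ => (∏ z ∈ (roots (u + s • w)).filter (Q (u + s • w)), (X - C z)).coeff k)
      (fun s hs => hd u hu w s ((hSiff s).1 hs)) (N₀ * n) ((C₀ * (1 + ‖u‖ + ‖w‖) ^ N₀) ^ n) fun s hs => by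
        refine (hbound Q _ ((hSiff s).1 hs) k).trans ?_
        rw [pow_mul, ← mul_pow, mul_assoc, ← mul_pow]
        gcongr
        have := norm_add_le u (s • w)
        rw [norm_smul] at this
        nlinarith [norm_nonneg u, norm_nonneg w, norm_nonneg s, mul_nonneg (norm_nonneg u) (norm_nonneg s)]
    exact ⟨q, hq, fun s hs => hqe s ((hSiff s).2 hs)⟩
  choose qO hqO using fun k => hpoly inO k (fun v₀ h₀ w s₀ hs => (hloc v₀ h₀ w s₀ hs k).1)
  choose qO' hqO' using fun k => hpoly (fun v z => ¬ inO v z) k (fun v₀ h₀ w s₀ hs => by convert (hloc v₀ h₀ w s₀ hs k).2 using 7)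
  let QO : P[X] := ∑ k ∈ Finset.range (n + 1), C (qO k) * X ^ k
  let QO' : P[X] := ∑ k ∈ Finset.range (n + 1), C (qO' k) * X ^ k
  have hev : ∀ (Q : (Fin d → ℂ) → ℂ → Prop) (q : ℕ → P), (∀ k, ∀ v ∈ G, (∏ z ∈ (roots v).filter (Q v), (X - C z)).coeff k = MvPolynomial.eval v (q k)) →
      ∀ v ∈ G, (∑ k ∈ Finset.range (n + 1), C (q k) * X ^ k).map (MvPolynomial.eval v) = ∏ z ∈ (roots v).filter (Q v), (X - C z) := by
    intro Q q hq v hv
    have hdeg : (∏ z ∈ (roots v).filter (Q v), (X - C z)).natDegree < n + 1 := by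
      rw [natDegree_prod _ _ fun z _ => X_sub_C_ne_zero z]
      simp only [natDegree_X_sub_C, Finset.sum_const, smul_eq_mul, mul_one]
      exact Nat.lt_succ_of_le ((Finset.card_filter_le _ _).trans
        ((Multiset.toFinset_card_le _).trans ((card_roots' _).trans natDegree_map_le)))
    rw [Polynomial.map_sum]
    conv_rhs => rw [Polynomial.as_sum_range' _ (n + 1) hdeg]
    refine Finset.sum_congr rfl fun k _ => ?_
    rw [Polynomial.map_mul, map_C, Polynomial.map_pow, map_X, hq k v hv, C_mul_X_pow_eq_monomial]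
  have hmul : QO * QO' = p := by
    ext1 k
    refine sub_eq_zero.1 ((mul_eq_zero.1 (?_ : D * ((QO * QO').coeff k - p.coeff k) = 0)).resolve_left hD)
    refine MvPolynomial.funext fun v => ?_
    rw [map_zero, map_mul]
    by_cases hv : v ∈ G
    · rw [map_sub, ← coeff_map, ← coeff_map, Polynomial.map_mul, hev inO qO hqO v hv,
        hev (fun v z => ¬ inO v z) qO' hqO' v hv, Finset.prod_filter_mul_prod_filter_not, hprod v hv, sub_self, mul_zero]
    · simp only [G, Set.mem_ofPred_eq, not_not] at hv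
      rw [hv, zero_mul]
  have hempty : ∀ (Q : (Fin d → ℂ) → ℂ → Prop) (R : P[X]), IsUnit R →
      (∀ v ∈ G, R.map (MvPolynomial.eval v) = ∏ z ∈ (roots v).filter (Q v), (X - C z)) →
      ∀ v ∈ G, (roots v).filter (Q v) = ∅ := by
    intro Q R hR h v hv
    have hu : IsUnit (∏ z ∈ (roots v).filter (Q v), (X - C z)) := h v hv ▸ hR.map (Polynomial.mapRingHom (MvPolynomial.eval v))
    have := natDegree_eq_zero_of_isUnit hu
    rw [natDegree_prod _ _ fun z _ => X_sub_C_ne_zero z] at this
    simpa using this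
  rcases (minpoly.irreducible hi).isUnit_or_isUnit (show minpoly P a = QO * QO' from hmul.symm) with hu | hu
  · left
    rw [Set.eq_empty_iff_forall_notMem]
    rintro _ ⟨⟨⟨χ, rfl⟩, hχD⟩, hχO⟩
    have h := hempty inO QO hu (hev inO qO hqO) _ ((hGiff χ).1 hχD)
    exact (Finset.eq_empty_iff_forall_notMem.1 h) _ (Finset.mem_filter.2 ⟨hroot χ, χ, rfl, rfl, hχO⟩)
  · right
    rw [Set.eq_empty_iff_forall_notMem]
    rintro _ ⟨⟨⟨χ, rfl⟩, hχD⟩, hχO'⟩
    have h := hempty (fun v z => ¬ inO v z) QO' hu (hev _ qO' hqO') _ ((hGiff χ).1 hχD)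
    have key : ¬ inO (coords (d := d) (χ : A → ℂ)) (χ a) := by
      rintro ⟨χ', hv', ha', hO₁⟩
      rw [ext_of_coords a D hA (by rw [hv']; exact (hGiff χ).1 hχD) hv' ha'] at hO₁
      exact hdisj.le ⟨⟨⟨χ, rfl⟩, hχD⟩, hO₁, hχO'⟩
    exact (Finset.eq_empty_iff_forall_notMem.1 h) (χ a) (by
      convert (Finset.mem_filter (p := fun z => ¬ inO (coords (d := d) (χ : A → ℂ)) z)).2 ⟨hroot χ, key⟩ using 3)

omit [Algebra (MvPolynomial (Fin d) ℂ) A] [IsScalarTower ℂ (MvPolynomial (Fin d) ℂ) A]
  [Module.Finite (MvPolynomial (Fin d) ℂ) A] in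
/-- The complex points of a finitely generated domain form a preconnected set. -/
theorem isPreconnected_homSet [Algebra.FiniteType ℂ A] : IsPreconnected (homSet A) := by
  obtain ⟨e, ι, hinj, hfin⟩ := exists_finite_inj_algHom_of_fg ℂ A
  letI : Algebra (MvPolynomial (Fin e) ℂ) A := ι.toRingHom.toAlgebra
  haveI : IsScalarTower ℂ (MvPolynomial (Fin e) ℂ) A := IsScalarTower.of_algebraMap_eq fun c => (ι.commutes c).symm
  haveI : Module.Finite (MvPolynomial (Fin e) ℂ) A := hfin
  obtain ⟨a, D, hD, hA, hsep⟩ := exists_primitive (A := A) hinj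
  let S := homSet A ∩ {f : A → ℂ | f (algebraMap (MvPolynomial (Fin e) ℂ) A D) ≠ 0}
  have hS : IsPreconnected S := by
    intro O O' hO hO' hcov ⟨x, hx⟩ ⟨y, hy⟩
    by_contra hn
    rw [Set.not_nonempty_iff_eq_empty] at hn
    rcases eq_empty_or_univ hinj a D hD hA hsep O O' hO hO' hcov hn with h | h
    · exact h.le hx
    · exact h.le hy
  refine hS.subset_closure Set.inter_subset_left ?_
  rintro _ ⟨φ, rfl⟩
  exact mem_closure_ne_zero (map_ne_zero_iff _ hinj |>.2 hD) φ

end

end Groth.Agent.AnConn
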