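import Mathlib
import Groth.Prelude.Def_AnPts
import Groth.Agent.AnConn.Branch
import Groth.Agent.AnPts.Morph

/-! Connectedness is read on complex points. -/

set_option autoImplicit false
set_option backward.isDefEq.respectTransparency false
set_option backward.isDefEq.respectTransparency.types false

open AlgebraicGeometry CategoryTheory TopologicalSpace Opposite Topology

namespace Groth.Agent.AnConn

open An An.Pts Groth.Agent.AnPts

noncomputable section

variable {X : Scheme.{0}} [X.Over SC]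

theorem mem_zeroLocus_iff (x : Pts X) (s : Set Γ(X, ⊤)) :
    x.pt ∈ X.zeroLocus (U := ⊤) s ↔ ∀ g ∈ s, x.evTop g = 0 := by
  rw [Scheme.mem_zeroLocus_iff]
  exact forall₂_congr fun g _ => by rw [mem_basicOpen_iff, not_not]

variable [LocallyOfFiniteType (X ↘ SC)]

theorem finiteType_strHom [IsAffine X] : (strHom X).FiniteType :=
  (HasRingHomProperty.appTop (P := @LocallyOfFiniteType) (X ↘ SC) inferInstance : (X ↘ SC).appTop.hom.FiniteType).comp
    (RingHom.FiniteType.of_surjective _ (ConcreteCategory.bijective_of_isIso (Scheme.ΓSpecIso (CommRingCat.of ℂ)).inv).2)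

theorem isPreconnected_zeroLocus [IsAffine X] (p : Ideal Γ(X, ⊤)) [p.IsPrime] :
    IsPreconnected (pt ⁻¹' X.zeroLocus (U := ⊤) (p : Set Γ(X, ⊤)) : Set (Pts X)) := by
  letI : Algebra ℂ Γ(X, ⊤) := (strHom X).toAlgebra
  haveI : Algebra.FiniteType ℂ Γ(X, ⊤) := finiteType_strHom
  haveI : Algebra.FiniteType ℂ (Γ(X, ⊤) ⧸ p) :=
    Algebra.FiniteType.of_surjective (Ideal.Quotient.mkₐ ℂ p) Ideal.Quotient.mk_surjective
  let E : Pts X → (Γ(X, ⊤) → ℂ) := fun x f => x.evTop f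
  let F : (Γ(X, ⊤) ⧸ p → ℂ) → (Γ(X, ⊤) → ℂ) := fun v f => v (Ideal.Quotient.mk p f)
  have hF : Continuous F := continuous_pi fun f => continuous_apply _
  have hE : IsInducing E := isInducing_evTop
  refine hE.isPreconnected_image.1 ?_
  have : E '' (pt ⁻¹' X.zeroLocus (U := ⊤) (p : Set Γ(X, ⊤))) = F '' homSet (Γ(X, ⊤) ⧸ p) := by
    ext v
    constructor
    · rintro ⟨x, hx, rfl⟩
      rw [Set.mem_preimage, mem_zeroLocus_iff] at hx
      let φ : Γ(X, ⊤) →ₐ[ℂ] ℂ := { evHom x ⊤ trivial with commutes' := evTop_strHom x }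
      exact ⟨_, ⟨Ideal.Quotient.liftₐ p φ hx, rfl⟩, funext fun f => rfl⟩
    · rintro ⟨_, ⟨ψ, rfl⟩, rfl⟩
      obtain ⟨x, hx⟩ := exists_of_ringHom ((ψ : Γ(X, ⊤) ⧸ p →+* ℂ).comp (Ideal.Quotient.mk p)) fun c => ψ.commutes c
      refine ⟨x, (mem_zeroLocus_iff x _).2 fun g hg => ?_, funext hx⟩
      rw [hx, RingHom.comp_apply, Ideal.Quotient.eq_zero_iff_mem.2 hg, map_zero]
  rw [this]
  exact (isPreconnected_homSet).image _ hF.continuousOn

theorem isPreconnected_affine_inter [IsAffine X] {T : Set X} (hT : IsClosed T) (hTi : IsIrreducible T) :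
    IsPreconnected (pt ⁻¹' T : Set (Pts X)) := by
  obtain ⟨η, hη⟩ := QuasiSober.sober hTi hT
  let p : Ideal Γ(X, ⊤) := Ideal.comap (CommRingCat.Hom.hom (X.presheaf.germ ⊤ η trivial)) (IsLocalRing.maximalIdeal (X.presheaf.stalk η))
  haveI : p.IsPrime := Ideal.IsPrime.comap _
  suffices T = X.zeroLocus (U := ⊤) (p : Set Γ(X, ⊤)) by rw [this]; exact isPreconnected_zeroLocus p
  have hp : ∀ g : Γ(X, ⊤), η ∈ X.basicOpen g ↔ g ∉ p := fun g => mem_basicOpen_iff_notMem η g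
  refine subset_antisymm ?_ fun y hy => ?_
  · have hη' : η ∈ X.zeroLocus (U := ⊤) (p : Set Γ(X, ⊤)) := by
      rw [Scheme.mem_zeroLocus_iff]
      exact fun g hg h => (hp g).1 h hg
    rw [← hη.def]
    exact closure_minimal (Set.singleton_subset_iff.2 hη') (X.zeroLocus_isClosed _)
  · rw [Scheme.mem_zeroLocus_iff] at hy
    refine (specializes_iff_forall_open.2 fun V hV hyV => ?_).mem_closed hT hη.mem
    obtain ⟨g, hgV, hyg⟩ := (isAffineOpen_top X).exists_basicOpen_le (V := ⟨V, hV⟩) ⟨y, hyV⟩ trivial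
    exact hgV ((hp g).2 fun hg => hy g hg hyg)

theorem isPreconnected_preimage_of_isIrreducible {Z : Set X} (hZc : IsClosed Z) (hZ : IsIrreducible Z) :
    IsPreconnected (pt ⁻¹' Z : Set (Pts X)) := by
  have hW : ∀ W : X.Opens, IsAffineOpen W → (Z ∩ W).Nonempty → IsPreconnected (pt ⁻¹' (Z ∩ W) : Set (Pts X)) := by
    intro W hW hne
    letI := opensOver W
    haveI : W.ι.IsOver SC := ⟨rfl⟩
    haveI : IsAffine (W : Scheme) := hW
    haveI := locallyOfFiniteType_opens W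
    have h1 : IsIrreducible (W.ι ⁻¹' Z) := ⟨by
      obtain ⟨z, hz, hzW⟩ := hne
      exact ⟨⟨z, hzW⟩, hz⟩, hZ.2.preimage W.ι.isOpenEmbedding⟩
    have h2 := (isPreconnected_affine_inter (hZc.preimage W.ι.continuous) h1).image _ (continuous_map W.ι).continuousOn
    convert h2
    ext y
    constructor
    · rintro ⟨hy, hyW⟩
      obtain ⟨y', rfl⟩ : y ∈ Set.range (Pts.map W.ι) := by
        rw [range_map_of_isOpenImmersion, Set.mem_preimage, Scheme.Opens.range_ι]; exact hyW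
      exact ⟨y', by rw [Set.mem_preimage, Set.mem_preimage, ← pt_map]; exact hy, rfl⟩
    · rintro ⟨y', hy', rfl⟩
      rw [Set.mem_preimage, pt_map]
      exact ⟨hy', (W.range_ι).le ⟨_, rfl⟩⟩
  obtain ⟨c, hc⟩ := exists_pts_mem hZc.isLocallyClosed hZ.1
  refine isPreconnected_of_forall c fun y hy => ?_
  obtain ⟨W, hcW, -, hWa⟩ := exists_affine_chart (U := ⊤) c trivial
  obtain ⟨W', hyW, -, hWa'⟩ := exists_affine_chart (U := ⊤) y trivial
  obtain ⟨m, hm⟩ := exists_pts_mem (Z := Z ∩ ((W : Set X) ∩ W'))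
    (hZc.isLocallyClosed.inter (W.isOpen.inter W'.isOpen).isLocallyClosed) (hZ.2 W W' W.isOpen W'.isOpen ⟨c.pt, hc, hcW⟩ ⟨y.pt, hy, hyW⟩)
  exact ⟨_, Set.union_subset (Set.preimage_mono Set.inter_subset_left) (Set.preimage_mono Set.inter_subset_left),
    Or.inl ⟨hc, hcW⟩, Or.inr ⟨hy, hyW⟩,
    (hW W hWa ⟨_, hc, hcW⟩).union m ⟨hm.1, hm.2.1⟩ ⟨hm.1, hm.2.2⟩ (hW W' hWa' ⟨_, hy, hyW⟩)⟩

theorem isClosed_sUnion_irreducibleComponents {S : Set (Set X)} (hS : ∀ Z ∈ S, Z ∈ irreducibleComponents X) :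
    IsClosed (⋃₀ S) := by
  haveI : IsLocallyNoetherian X := LocallyOfFiniteType.isLocallyNoetherian (X ↘ SC)
  rw [← isOpen_compl_iff, isOpen_iff_forall_mem_open]
  intro x hx
  obtain ⟨W, hW, hxW⟩ : ∃ W : X.Opens, IsAffineOpen W ∧ x ∈ W := by
    obtain ⟨_, ⟨W, hW, rfl⟩, hxW, -⟩ := X.isBasis_affineOpens.exists_subset_of_mem_open (Set.mem_univ x) isOpen_univ
    exact ⟨W, hW, hxW⟩
  haveI : IsAffine (Scheme.Opens.toScheme W) := hW
  haveI : IsLocallyNoetherian (Scheme.Opens.toScheme W) := LocallyOfFiniteType.isLocallyNoetherian (Scheme.Opens.ι W)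
  haveI := isNoetherian_of_isAffine (Scheme.Opens.toScheme W)
  have hfin : {Z | Z ∈ S ∧ (Z ∩ W).Nonempty}.Finite := by
    refine Set.Finite.of_finite_image (f := fun Z => W.ι ⁻¹' Z)
      ((NoetherianSpace.finite_irreducibleComponents (α := (Scheme.Opens.toScheme W))).subset ?_) ?_
    · rintro _ ⟨Z, ⟨hZS, hne⟩, rfl⟩
      have hZ := hS Z hZS
      exact preimage_mem_irreducibleComponents hZ W.ι.isOpenEmbedding (by
        obtain ⟨z, hz, hzW⟩ := hne
        exact ⟨z, hz, ⟨⟨z, hzW⟩, rfl⟩⟩)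
    · rintro Z ⟨hZS, hne⟩ Z' ⟨hZS', hne'⟩ he
      have hZ := hS Z hZS
      have hZ' := hS Z' hZS'
      have key : ∀ {Z Z' : Set X}, Z ∈ irreducibleComponents X → IsClosed Z' → (Z ∩ W).Nonempty →
          W.ι ⁻¹' Z ⊆ W.ι ⁻¹' Z' → Z ⊆ Z' := fun {Z Z'} hZ hZ' hne h =>
        (subset_closure_inter_of_isPreirreducible_of_isOpen hZ.1.2 W.isOpen hne).trans
          (closure_minimal (fun z hz => h (show (⟨z, hz.2⟩ : (Scheme.Opens.toScheme W)) ∈ W.ι ⁻¹' Z from hz.1)) hZ')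
      exact subset_antisymm (key hZ (isClosed_of_mem_irreducibleComponents _ hZ') hne he.le)
        (key hZ' (isClosed_of_mem_irreducibleComponents _ hZ) hne' he.ge)
  refine ⟨W ∩ (⋃ Z ∈ {Z | Z ∈ S ∧ (Z ∩ W).Nonempty}, Z)ᶜ, ?_,
    W.isOpen.inter (hfin.isClosed_biUnion fun Z hZ => isClosed_of_mem_irreducibleComponents _ (hS _ hZ.1)).isOpen_compl,
    hxW, ?_⟩
  · rintro y ⟨hyW, hy⟩ ⟨Z, hZS, hyZ⟩
    exact hy (Set.mem_biUnion ⟨hZS, y, hyZ, hyW⟩ hyZ)
  · intro hx'
    obtain ⟨Z, ⟨hZS, -⟩, hxZ⟩ := Set.mem_iUnion₂.1 hx'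
    exact hx ⟨Z, hZS, hxZ⟩

/-- A clopen set of complex points comes from a clopen subset of the scheme. -/
theorem exists_isClopen_eq {A : Set (Pts X)} (hA : IsClopen A) :
    ∃ T : Set X, IsClopen T ∧ pt ⁻¹' T = A := by
  haveI : IsLocallyNoetherian X := LocallyOfFiniteType.isLocallyNoetherian (X ↘ SC)
  let T : (Set (Pts X)) → Set X := fun A => ⋃₀ {Z | Z ∈ irreducibleComponents X ∧ (pt ⁻¹' Z : Set (Pts X)) ⊆ A}
  have hclosed : ∀ A, IsClosed (T A) := fun A => isClosed_sUnion_irreducibleComponents fun Z hZ => hZ.1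
  have hside : ∀ Z ∈ irreducibleComponents X, (pt ⁻¹' Z : Set (Pts X)) ⊆ A ∨ (pt ⁻¹' Z : Set (Pts X)) ⊆ Aᶜ := fun Z hZ =>
    (isPreconnected_preimage_of_isIrreducible (isClosed_of_mem_irreducibleComponents _ hZ) hZ.1).subset_or_subset
      hA.2 hA.compl.2 disjoint_compl_right (by simp)
  have hcover : T A ∪ T Aᶜ = Set.univ := Set.eq_univ_of_forall fun x => by
    have hmem : irreducibleComponent x ∈ irreducibleComponents X := irreducibleComponent_mem_irreducibleComponents x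
    rcases hside _ hmem with h | h
    · exact Or.inl ⟨_, ⟨hmem, h⟩, mem_irreducibleComponent⟩
    · exact Or.inr ⟨_, ⟨hmem, h⟩, mem_irreducibleComponent⟩
  have hdisj : T A ∩ T Aᶜ = ∅ := by
    by_contra hne
    obtain ⟨a, ⟨Z, ⟨_, hZA⟩, haZ⟩, ⟨Z', ⟨_, hZA'⟩, haZ'⟩⟩ :=
      exists_pts_mem ((hclosed A).inter (hclosed Aᶜ)).isLocallyClosed (Set.nonempty_iff_ne_empty.2 hne)
    exact hZA' haZ' (hZA haZ)
  have hcompl : T A = (T Aᶜ)ᶜ := subset_antisymm (fun x hx hx' => hdisj.le ⟨hx, hx'⟩)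
    fun x hx => (hcover.ge (Set.mem_univ x)).resolve_right hx
  refine ⟨T A, ⟨hclosed A, hcompl ▸ (hclosed Aᶜ).isOpen_compl⟩, ?_⟩
  ext x
  refine ⟨fun ⟨Z, ⟨_, hZA⟩, hxZ⟩ => hZA hxZ, fun hx => ?_⟩
  rcases hcover.ge (Set.mem_univ x.pt) with h | ⟨Z, ⟨_, hZA⟩, hxZ⟩
  · exact h
  · exact absurd hx (hZA hxZ)

theorem preconnectedSpace_iff : PreconnectedSpace ↥X ↔ PreconnectedSpace (Pts X) := by
  constructor
  · intro h
    refine preconnectedSpace_iff_clopen.2 fun A hA => ?_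
    obtain ⟨T, hT, rfl⟩ := exists_isClopen_eq hA
    rcases isClopen_iff.1 hT with rfl | rfl
    · exact Or.inl rfl
    · exact Or.inr rfl
  · intro h
    refine preconnectedSpace_iff_clopen.2 fun T hT => ?_
    by_contra hne
    push Not at hne
    obtain ⟨a, ha⟩ := exists_pts_mem hT.1.isLocallyClosed (hne.1)
    obtain ⟨b, hb⟩ := exists_pts_mem hT.compl.1.isLocallyClosed (Set.nonempty_compl.2 hne.2)
    rcases isClopen_iff.1 (hT.preimage continuous_pt) with h' | h'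
    · exact (Set.eq_empty_iff_forall_notMem.1 h') a ha
    · exact hb (h'.ge (Set.mem_univ b))

theorem connectedSpace_iff : ConnectedSpace ↥X ↔ ConnectedSpace (Pts X) := by
  constructor
  · intro h
    haveI := (preconnectedSpace_iff (X := X)).1 inferInstance
    obtain ⟨a, -⟩ := exists_pts_mem (X := X) isClosed_univ.isLocallyClosed Set.univ_nonempty
    exact { toNonempty := ⟨a⟩ }
  · intro h
    haveI := (preconnectedSpace_iff (X := X)).2 inferInstance
    exact { toNonempty := ⟨(Classical.arbitrary (Pts X)).pt⟩ }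

theorem connectedComponentsMap_bijective :
    Function.Bijective (continuous_pt (X := X)).connectedComponentsMap := by
  haveI : IsLocallyNoetherian X := LocallyOfFiniteType.isLocallyNoetherian (X ↘ SC)
  constructor
  · intro c c'
    obtain ⟨x, rfl⟩ := ConnectedComponents.surjective_coe c
    obtain ⟨y, rfl⟩ := ConnectedComponents.surjective_coe c'
    intro h
    have h' : (ConnectedComponents.mk x.pt) = ConnectedComponents.mk y.pt := h
    rw [ConnectedComponents.coe_eq_coe'] at h' ⊢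
    let C := connectedComponent y.pt
    have hCc : IsClosed C := isClosed_connectedComponent
    have hpre : IsPreconnected (pt ⁻¹' C : Set (Pts X)) := by
      intro u v hu hv hcov ⟨a, ha, hau⟩ ⟨b, hb, hbv⟩
      by_contra hn
      rw [Set.not_nonempty_iff_eq_empty] at hn
      have hside : ∀ z ∈ (pt ⁻¹' C : Set (Pts X)), ∀ Z ∈ irreducibleComponents X, z.pt ∈ Z →
          (pt ⁻¹' Z : Set (Pts X)) ⊆ pt ⁻¹' C := fun z hz Z hZ hzZ =>
        Set.preimage_mono ((hZ.1.isConnected.isPreconnected.subset_connectedComponent hzZ).trans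
          (connectedComponent_eq hz).ge)
      let Tu : Set X := ⋃₀ {Z | Z ∈ irreducibleComponents X ∧ (pt ⁻¹' Z : Set (Pts X)) ⊆ pt ⁻¹' C ∩ u}
      let Tv : Set X := ⋃₀ {Z | Z ∈ irreducibleComponents X ∧ (pt ⁻¹' Z : Set (Pts X)) ⊆ pt ⁻¹' C ∩ v}
      have hcl : ∀ w : Set (Pts X), IsClosed (⋃₀ {Z | Z ∈ irreducibleComponents X ∧ (pt ⁻¹' Z : Set (Pts X)) ⊆ w}) :=
        fun w => isClosed_sUnion_irreducibleComponents fun Z hZ => hZ.1
      have key : ∀ z ∈ (pt ⁻¹' C : Set (Pts X)), z.pt ∈ Tu ∨ z.pt ∈ Tv := fun z hz => by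
        have hmem : irreducibleComponent z.pt ∈ irreducibleComponents X := irreducibleComponent_mem_irreducibleComponents _
        have hsub := hside z hz _ hmem mem_irreducibleComponent
        have hp := isPreconnected_preimage_of_isIrreducible (isClosed_of_mem_irreducibleComponents _ hmem) hmem.1
        by_cases hu' : ((pt ⁻¹' irreducibleComponent z.pt : Set (Pts X)) ∩ v).Nonempty
        · by_cases hv' : ((pt ⁻¹' irreducibleComponent z.pt : Set (Pts X)) ∩ u).Nonempty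
          · obtain ⟨w, hw, hw'⟩ := hp u v hu hv (hsub.trans hcov) hv' hu'
            exact absurd (hn.le ⟨hsub hw, hw'⟩) (Set.notMem_empty w)
          · exact Or.inr ⟨_, ⟨hmem, fun w hw => ⟨hsub hw, (hcov (hsub hw)).resolve_left fun h => hv' ⟨w, hw, h⟩⟩⟩,
              mem_irreducibleComponent⟩
        · exact Or.inl ⟨_, ⟨hmem, fun w hw => ⟨hsub hw, (hcov (hsub hw)).resolve_right fun h => hu' ⟨w, hw, h⟩⟩⟩,
            mem_irreducibleComponent⟩
      have hCcov : C ⊆ Tu ∪ Tv := by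
        intro q hq
        by_contra hnq
        obtain ⟨z, hzC, hz⟩ := exists_pts_mem
          (hCc.isLocallyClosed.inter ((hcl _).union (hcl _)).isOpen_compl.isLocallyClosed) ⟨q, hq, hnq⟩
        exact hz (key z hzC)
      obtain ⟨q, hqC, hqu, hqv⟩ := isPreconnected_closed_iff.1 isPreconnected_connectedComponent Tu Tv (hcl _) (hcl _) hCcov
        ⟨a.pt, ha, (key a ha).resolve_right fun ⟨Z, ⟨_, hZ⟩, haZ⟩ => hn.le ⟨ha, hau, (hZ haZ).2⟩⟩
        ⟨b.pt, hb, (key b hb).resolve_left fun ⟨Z, ⟨_, hZ⟩, hbZ⟩ => hn.le ⟨hb, (hZ hbZ).2, hbv⟩⟩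
      obtain ⟨z, hzC, ⟨Z, ⟨_, hZ⟩, hzZ⟩, ⟨Z', ⟨_, hZ'⟩, hzZ'⟩⟩ := exists_pts_mem
        (hCc.inter ((hcl _).inter (hcl _))).isLocallyClosed ⟨q, hqC, hqu, hqv⟩
      exact hn.le ⟨hzC, (hZ hzZ).2, (hZ' hzZ').2⟩
    exact hpre.subset_connectedComponent mem_connectedComponent h'
  · intro c
    obtain ⟨q, rfl⟩ := ConnectedComponents.surjective_coe c
    obtain ⟨a, ha⟩ := exists_pts_mem isClosed_connectedComponent.isLocallyClosed ⟨q, mem_connectedComponent⟩
    exact ⟨ConnectedComponents.mk a, ConnectedComponents.coe_eq_coe'.2 ha⟩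

end

end Groth.Agent.AnConn
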