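import Mathlib
import Groth.Prelude.Def_AnEps
import Groth.Agent.AnConn.Scheme
import Groth.Agent.AnSite.Eps

/-! `U ↦ U(ℂ)` is fully faithful on etale schemes (towards separated targets). -/

set_option autoImplicit false
set_option backward.isDefEq.respectTransparency false
set_option backward.isDefEq.respectTransparency.types false

open AlgebraicGeometry CategoryTheory CategoryTheory.Limits TopologicalSpace Topology Opposite

namespace Groth.Agent.AnConn

open An An.Pts Groth.Agent.AnPts Groth.Agent.AnSite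

noncomputable section

variable {X : Scheme.{0}} [X.Over SC] [LocallyOfFiniteType (X ↘ SC)]

theorem eq_univ_of_forall_pts (W : X.Opens) (h : ∀ a : Pts X, a.pt ∈ W) : W = ⊤ := by
  by_contra hne
  obtain ⟨a, ha⟩ := exists_pts_mem W.isOpen.isClosed_compl.isLocallyClosed
    (Set.nonempty_compl.2 fun h => hne (SetLike.coe_injective h))
  exact ha (h a)

theorem isIso_of_bijective_pts {W U : Scheme.{0}} [W.Over SC] [U.Over SC] [LocallyOfFiniteType (W ↘ SC)]
    [LocallyOfFiniteType (U ↘ SC)] (p : W ⟶ U) [p.IsOver SC] [Etale p] (h : Function.Bijective (Pts.map p)) : IsIso p := by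
  haveI := locallyOfFiniteType_pullback p p
  haveI : IsOpenImmersion (pullback.diagonal p) := inferInstance
  haveI : Mono p := by
    have htop : (pullback.diagonal p).opensRange = ⊤ := eq_univ_of_forall_pts _ fun z =>
      (range_diagonal p).ge (h.1 (Pts.map_pullback_condition p p z))
    haveI : IsIso (pullback.diagonal p) :=
      (isIso_iff_isOpenImmersion_and_surjective _).2 ⟨inferInstance, ⟨Set.range_eq_univ.1 (by
        rw [← Scheme.Hom.coe_opensRange, htop]; rfl)⟩⟩
    exact (pullback.isIso_diagonal_iff p).1 inferInstance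
  haveI : IsOpenImmersion p := IsOpenImmersion.of_flat_of_mono p
  have htop : p.opensRange = ⊤ := eq_univ_of_forall_pts _ fun z => by
    obtain ⟨w, rfl⟩ := h.2 z
    exact ⟨w.pt, (pt_map p w).symm⟩
  exact (isIso_iff_isOpenImmersion_and_surjective _).2 ⟨inferInstance, ⟨Set.range_eq_univ.1 (by
    rw [← Scheme.Hom.coe_opensRange, htop]; rfl)⟩⟩

variable [Fact EtaleLH]

theorem exists_map_eq (U V : X.Etale) [IsSeparated (V.left ↘ X)] (f : (eps X).obj U ⟶ (eps X).obj V) :
    ∃ g : U ⟶ V, (eps X).map g = f := by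
  haveI := etale_str X U; haveI := etale_str X V
  haveI := locallyOfFiniteType_left X U; haveI := locallyOfFiniteType_left X V
  let P := pullback (U.left ↘ X) (V.left ↘ X)
  haveI := locallyOfFiniteType_pullback (U.left ↘ X) (V.left ↘ X)
  have hover : ∀ a : Pts U.left, Pts.map (V.left ↘ X) (f.toFun a) = Pts.map (U.left ↘ X) a := fun a => f.over a
  let Φ := (isHomeomorph_pullback (U.left ↘ X) (V.left ↘ X)).homeomorph
  let γ : Pts U.left → Pts P := fun a => Φ.symm ⟨(a, f.toFun a), (hover a).symm⟩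
  have hγc : Continuous γ := Φ.symm.continuous.comp ((continuous_id.prodMk f.continuous).subtype_mk _)
  have hγ₁ : ∀ a, Pts.map (pullback.fst (U.left ↘ X) (V.left ↘ X)) (γ a) = a := fun a =>
    congrArg (fun s => s.1.1) (Φ.apply_symm_apply ⟨(a, f.toFun a), (hover a).symm⟩)
  have hγ₂ : ∀ a, Pts.map (pullback.snd (U.left ↘ X) (V.left ↘ X)) (γ a) = f.toFun a := fun a =>
    congrArg (fun s => s.1.2) (Φ.apply_symm_apply ⟨(a, f.toFun a), (hover a).symm⟩)
  have hγ : Set.range γ = {z | f.toFun (Pts.map (pullback.fst (U.left ↘ X) (V.left ↘ X)) z) =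
      Pts.map (pullback.snd (U.left ↘ X) (V.left ↘ X)) z} := by
    ext z
    constructor
    · rintro ⟨a, rfl⟩
      exact ((congrArg f.toFun (hγ₁ a)).trans (hγ₂ a).symm)
    · intro hz
      refine ⟨Pts.map (pullback.fst (U.left ↘ X) (V.left ↘ X)) z, Φ.injective (Subtype.ext (Prod.ext (hγ₁ _) ?_))⟩
      exact (hγ₂ _).trans hz
  have hsep : IsSeparatedMap (Pts.map (V.left ↘ X)) := (Groth.Agent.AnPts.isSeparated_iff (V.left ↘ X)).1 inferInstance
  have hloc : IsLocalHomeomorph (Pts.map (V.left ↘ X)) := (Fact.out : EtaleLH) V.left X (V.left ↘ X)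
  have hclopen : IsClopen (Set.range γ) := by
    rw [hγ]
    have hcont : Continuous fun z : Pts P => f.toFun (Pts.map (pullback.fst (U.left ↘ X) (V.left ↘ X)) z) :=
      f.continuous.comp (continuous_map _)
    have hcomp : Pts.map (V.left ↘ X) ∘ (fun z : Pts P => f.toFun (Pts.map (pullback.fst (U.left ↘ X) (V.left ↘ X)) z)) =
        Pts.map (V.left ↘ X) ∘ Pts.map (pullback.snd (U.left ↘ X) (V.left ↘ X)) := funext fun z =>
      (hover _).trans (Pts.map_pullback_condition (U.left ↘ X) (V.left ↘ X) z)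
    exact ⟨hsep.isClosed_eqLocus hcont (continuous_map _) hcomp,
      hloc.isLocallyInjective.isOpen_eqLocus hcont (continuous_map _) hcomp⟩
  obtain ⟨T, hT, hTeq⟩ := exists_isClopen_eq hclopen
  let W : P.Opens := ⟨T, hT.2⟩
  letI := opensOver W
  haveI : W.ι.IsOver SC := ⟨rfl⟩
  haveI := locallyOfFiniteType_opens W
  let p : (W : Scheme) ⟶ U.left := W.ι ≫ pullback.fst (U.left ↘ X) (V.left ↘ X)
  haveI : p.IsOver SC := ⟨by
    change p ≫ (U.left ↘ SC) = W.ι ≫ pullback.fst (U.left ↘ X) (V.left ↘ X) ≫ (U.left ↘ SC)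
    rw [Category.assoc]⟩
  haveI : Etale p := inferInstanceAs (Etale (W.ι ≫ pullback.fst (U.left ↘ X) (V.left ↘ X)))
  have hpbij : Function.Bijective (Pts.map p) := by
    have hp : ∀ w, Pts.map p w = Pts.map (pullback.fst (U.left ↘ X) (V.left ↘ X)) (Pts.map W.ι w) :=
      fun w => Pts.map_comp _ _ w
    have hmem : ∀ w, Pts.map W.ι w ∈ Set.range γ := fun w => by
      rw [← hTeq, Set.mem_preimage, pt_map]
      exact (W.range_ι).le ⟨_, rfl⟩
    constructor
    · intro w w' h
      refine map_injective_of_mono W.ι ?_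
      obtain ⟨a, ha⟩ := hmem w; obtain ⟨a', ha'⟩ := hmem w'
      rw [hp, hp, ← ha, ← ha', hγ₁, hγ₁] at h
      rw [← ha, ← ha', h]
    · intro a
      obtain ⟨w, hw⟩ : γ a ∈ Set.range (Pts.map W.ι) := by
        rw [range_map_of_isOpenImmersion, Set.mem_preimage, Scheme.Opens.range_ι]
        exact hTeq.ge ⟨a, rfl⟩
      exact ⟨w, by rw [hp, hw, hγ₁]⟩
  haveI : IsIso p := isIso_of_bijective_pts p hpbij
  let g₀ : U.left ⟶ V.left := inv p ≫ W.ι ≫ pullback.snd (U.left ↘ X) (V.left ↘ X)
  have hg₀ : g₀ ≫ (V.left ↘ X) = U.left ↘ X := by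
    simp only [g₀, Category.assoc, ← pullback.condition]
    rw [← Category.assoc W.ι, IsIso.inv_hom_id_assoc]
  refine ⟨MorphismProperty.Over.homMk g₀ hg₀ trivial, Cl.hom_ext (funext fun a => Subtype.ext ?_)⟩
  change a.1 ≫ g₀ = (f.toFun a).1
  obtain ⟨w, rfl⟩ := hpbij.2 a
  have hmem : Pts.map W.ι w ∈ Set.range γ := by
    rw [← hTeq, Set.mem_preimage, pt_map]
    exact (W.range_ι).le ⟨_, rfl⟩
  obtain ⟨a', ha'⟩ := hmem
  have ha : Pts.map p w = a' := by
    refine (Pts.map_comp _ _ w).trans ?_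
    rw [← ha', hγ₁]
  rw [show f.toFun (Pts.map p w) = f.toFun a' from congrArg f.toFun ha, ← hγ₂ a']
  simp only [g₀, map_val, Category.assoc, IsIso.hom_inv_id_assoc]
  rw [ha', map_val, Category.assoc]

theorem eps_faithful : (eps X).Faithful where
  map_injective {U V} g₁ g₂ h := by
    haveI := etale_str X U; haveI := etale_str X V
    haveI := locallyOfFiniteType_left X U; haveI := locallyOfFiniteType_left X V
    have w₁ : g₁.left ≫ (V.left ↘ X) = U.left ↘ X := Over.w g₁.hom
    have w₂ : g₂.left ≫ (V.left ↘ X) = U.left ↘ X := Over.w g₂.hom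
    let m : U.left ⟶ pullback (V.left ↘ X) (V.left ↘ X) := pullback.lift g₁.left g₂.left (w₁.trans w₂.symm)
    let i := pullback.fst m (pullback.diagonal (V.left ↘ X))
    haveI : IsOpenImmersion i := inferInstance
    have htop : i.opensRange = ⊤ := eq_univ_of_forall_pts _ fun a => by
      have e : a.1 ≫ g₁.left = a.1 ≫ g₂.left := congrArg Subtype.val (congrFun (congrArg Cl.Hom.toFun h) a)
      have e' : a.1 ≫ m = (a.1 ≫ g₁.left) ≫ pullback.diagonal (V.left ↘ X) := by
        apply pullback.hom_ext <;> simp [m, e]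
      exact ⟨pullback.lift a.1 (a.1 ≫ g₁.left) e' cpt, by rw [← Scheme.Hom.comp_apply, pullback.lift_fst]; rfl⟩
    haveI : IsIso i := (isIso_iff_isOpenImmersion_and_surjective _).2 ⟨inferInstance, ⟨Set.range_eq_univ.1 (by
      rw [← Scheme.Hom.coe_opensRange, htop]; rfl)⟩⟩
    refine MorphismProperty.Over.Hom.ext ((cancel_epi i).1 ?_)
    have := pullback.condition (f := m) (g := pullback.diagonal (V.left ↘ X))
    have e1 := congrArg (fun s => s ≫ pullback.fst _ _) this
    have e2 := congrArg (fun s => s ≫ pullback.snd _ _) this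
    simp only [Category.assoc, m, pullback.lift_fst, pullback.lift_snd, pullback.diagonal_fst,
      pullback.diagonal_snd, Category.comp_id] at e1 e2
    exact e1.trans e2.symm

end

end Groth.Agent.AnConn
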